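import Cfsg.Agent.Lib.InvChar.CosetPerm

/-!
# Certified search for the permutations that commute with a given one and preserve a relation
-/

set_option autoImplicit false

namespace CfsgLib.KnownA.SuzOut

open CfsgLib.InvChar.Coset

/-- The bit at a position. -/
noncomputable def bit (R q : ℕ) : Bool := Nat.beq ((R >>> q) % 2) 1

theorem bit_eq (R q : ℕ) : bit R q = R.testBit q := by
  rw [Bool.eq_iff_iff, Nat.testBit_eq_decide_div_mod_eq, decide_eq_true_iff, bit, Nat.shiftRight_eq_div_pow]
  exact ⟨Nat.eq_of_beq_eq_true, fun h => by rw [h]; rfl⟩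

theorem bit_two_pow (b q : ℕ) : (2 ^ b).testBit q = true ↔ b = q := by
  rw [Nat.testBit_two_pow]
  simp

/-- The data of a search: a table, the letter of the permutation, a number of steps along its cycles,
and some rows of the relation. -/
structure Cfg where
  /-- table -/
  U : Table
  /-- letter -/
  c : ℕ
  /-- steps -/
  K : ℕ
  /-- position plus one of the row of a point -/
  pos : Tr
  /-- rows as bit masks -/
  rows : Tr

namespace Cfg

variable (D : Cfg)

/-- The position plus one. -/
noncomputable def at' (p : ℕ) : ℕ := field D.pos 128 20 p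

/-- The row of a point. -/
noncomputable def row (p : ℕ) : ℕ := force (D.at' p - 1) fun k => D.rows.get k

/-- The mask of all points. -/
noncomputable def full : ℕ := 2 ^ D.U.n - 1

/-- The restriction that `a ↦ b` puts on the image of `r`. -/
noncomputable def step (a b r M : ℕ) : ℕ :=
  force (bif Nat.beq a r then M &&& 2 ^ b else M &&& (D.full ^^^ 2 ^ b)) fun M₁ =>
    bif Nat.beq (D.at' a) 0 || Nat.beq (D.at' b) 0 then M₁
    else bif bit (D.row a) r then M₁ &&& D.row b else M₁ &&& (D.full ^^^ D.row b)

/-- The possible images of `r`. -/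
noncomputable def mask (A : List (ℕ × ℕ)) (r : ℕ) : ℕ :=
  List.rec D.full (fun p _ ih => D.step p.1 p.2 r ih) A

/-- Add a pair and its translates. -/
noncomputable def ext (m : ℕ) : ℕ → ℕ → List (ℕ × ℕ) → List (ℕ × ℕ) :=
  Nat.rec (fun _ _ A => A)
    (fun _ ih a b A => force (D.U.app a D.c) fun a' => force (D.U.app b D.c) fun b' =>
      (a, b) :: ih a' b' A) m

/-- All images are forced to be the identity ones. -/
noncomputable def chkLeaf (A : List (ℕ × ℕ)) : Bool :=
  Nat.rec true (fun r ih => ih && Nat.beq (D.mask A r) (2 ^ r)) D.U.n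

end Cfg

/-- A search tree. -/
inductive Srch : Type
  | leaf
  | node (r : ℕ) (kids : Srch)
  | kid (q : ℕ) (sub rest : Srch)
  | done

namespace Cfg

variable (D : Cfg)

/-- Check a search tree. -/
noncomputable def chk (t : Srch) : List (ℕ × ℕ) → ℕ → ℕ → Bool :=
  Srch.rec (fun A _ _ => D.chkLeaf A)
    (fun r _ ih A _ _ => Nat.blt r D.U.n && force (D.mask A r) fun M => ih A r M)
    (fun q _ _ ihs ihr A r M => Nat.blt r D.U.n && bit M q && ihs (D.ext D.K r q A) D.U.n 0 &&
      force (M ^^^ 2 ^ q) fun M' => ihr A r M')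
    (fun _ r M => Nat.blt r D.U.n && Nat.beq M 0) t

/-- The meaning of a configuration. -/
structure Sound (Rel : Fin D.U.n → Fin D.U.n → Prop) (m : Equiv.Perm (Fin D.U.n)) : Prop where
  app : ∀ i : Fin D.U.n, D.U.app i D.c = (m i : ℕ)
  rows : ∀ p : Fin D.U.n, D.at' p ≠ 0 → ∀ q : Fin D.U.n, (bit (D.row p) q = true ↔ Rel p q)

/-- A permutation that commutes with `m` and preserves the relation. -/
def Good (Rel : Fin D.U.n → Fin D.U.n → Prop) (m g : Equiv.Perm (Fin D.U.n)) : Prop :=
  (∀ i, g (m i) = m (g i)) ∧ ∀ p q, Rel p q ↔ Rel (g p) (g q)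

/-- The permutation agrees with the assignments. -/
def Sat (g : Equiv.Perm (Fin D.U.n)) (A : List (ℕ × ℕ)) : Prop :=
  ∀ p ∈ A, ∃ i : Fin D.U.n, (i : ℕ) = p.1 ∧ (g i : ℕ) = p.2

theorem full_testBit (q : ℕ) : D.full.testBit q = decide (q < D.U.n) := Nat.testBit_two_pow_sub_one _ _

variable {D} {Rel : Fin D.U.n → Fin D.U.n → Prop} {m : Equiv.Perm (Fin D.U.n)}

theorem Good.one : D.Good Rel m 1 := ⟨fun _ => rfl, fun _ _ => Iff.rfl⟩

theorem Good.mul {g h : Equiv.Perm (Fin D.U.n)} (hg : D.Good Rel m g) (hh : D.Good Rel m h) :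
    D.Good Rel m (g * h) :=
  ⟨fun i => by rw [Equiv.Perm.mul_apply, hh.1, hg.1]; rfl, fun p q => (hh.2 p q).trans (hg.2 _ _)⟩

theorem Good.inv {g : Equiv.Perm (Fin D.U.n)} (hg : D.Good Rel m g) : D.Good Rel m g⁻¹ := by
  refine ⟨fun i => g.injective ?_, fun p q => ?_⟩
  · rw [hg.1]; simp
  · have h := hg.2 (g⁻¹ p) (g⁻¹ q)
    simp only [show ∀ a, g (g⁻¹ a) = a from g.apply_symm_apply] at h
    exact h.symm

variable (hS : D.Sound Rel m) {g : Equiv.Perm (Fin D.U.n)} (hg : D.Good Rel m g)

include hS hg

theorem mask_sound : ∀ A : List (ℕ × ℕ), D.Sat g A → ∀ i : Fin D.U.n,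
    (D.mask A i).testBit (g i) = true := by
  intro A
  induction A with
  | nil => intro _ i; exact (D.full_testBit _).trans (decide_eq_true (g i).2)
  | cons p A ih =>
    intro hA i
    obtain ⟨a, ha, hb⟩ := hA p (List.mem_cons_self ..)
    have h0 := ih (fun x hx => hA x (List.mem_cons_of_mem _ hx)) i
    obtain ⟨pa, pb⟩ := p
    change (a : ℕ) = pa at ha
    change (g a : ℕ) = pb at hb
    subst ha hb
    show (D.step a (g a) i (D.mask A i)).testBit (g i) = true
    generalize D.mask A i = M at h0
    rw [step, force_eq]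
    have h1 : (bif Nat.beq a i then M &&& 2 ^ (g a : ℕ)
        else M &&& (D.full ^^^ 2 ^ (g a : ℕ))).testBit (g i) = true := by
      cases hai : Nat.beq (a : ℕ) i with
      | true =>
        have : a = i := Fin.ext (Nat.eq_of_beq_eq_true hai)
        subst this
        simp [h0]
      | false =>
        have hne : a ≠ i := fun e => by
          rw [e] at hai
          exact Bool.false_ne_true (hai.symm.trans (Nat.beq_refl _))
        have hne' : (g a : ℕ) ≠ (g i : ℕ) := fun e => hne (g.injective (Fin.ext e))
        simp [h0, D.full_testBit, hne']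
    revert h1
    generalize (bif Nat.beq a i then M &&& 2 ^ (g a : ℕ) else M &&& (D.full ^^^ 2 ^ (g a : ℕ))) = M₁
    intro h1
    cases hc : (Nat.beq (D.at' a) 0 || Nat.beq (D.at' (g a : ℕ)) 0) with
    | true => exact h1
    | false =>
      rw [Bool.or_eq_false_iff] at hc
      have n1 : D.at' a ≠ 0 := fun e => by rw [e] at hc; exact Bool.false_ne_true (hc.1.symm.trans rfl)
      have n2 : D.at' (g a : ℕ) ≠ 0 := fun e => by rw [e] at hc; exact Bool.false_ne_true (hc.2.symm.trans rfl)
      have e1 := hS.rows a n1 i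
      have e2 := hS.rows (g a) n2 (g i)
      rw [← hg.2] at e2
      have e : bit (D.row a) i = (D.row (g a : ℕ)).testBit (g i) := by
        rw [← bit_eq]; exact Bool.eq_iff_iff.2 (e1.trans e2.symm)
      cases hb : bit (D.row a) i with
      | true =>
        rw [hb] at e
        simp [h1, ← e]
      | false =>
        rw [hb] at e
        simp [h1, D.full_testBit, ← e]

theorem ext_sound : ∀ (k : ℕ) (a : Fin D.U.n) (A : List (ℕ × ℕ)), D.Sat g A →
    D.Sat g (D.ext k a (g a : ℕ) A) := by
  intro k
  induction k with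
  | zero => intro _ A hA; exact hA
  | succ k ih =>
    intro a A hA
    show D.Sat g (force (D.U.app a D.c) fun a' => force (D.U.app (g a : ℕ) D.c) fun b' =>
      ((a : ℕ), (g a : ℕ)) :: D.ext k a' b' A)
    simp only [force_eq, hS.app]
    rw [← hg.1]
    intro p hp
    rcases List.mem_cons.1 hp with rfl | hp
    · exact ⟨a, rfl, rfl⟩
    · exact ih (m a) A hA p hp

theorem chkLeaf_sound {A : List (ℕ × ℕ)} (h : D.chkLeaf A = true) (hA : D.Sat g A) : g = 1 := by
  have key : ∀ k, (Nat.rec true (fun r ih => ih && Nat.beq (D.mask A r) (2 ^ r)) k : Bool) = true →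
      ∀ r < k, D.mask A r = 2 ^ r := by
    intro k
    induction k with
    | zero => intro _ r hr; omega
    | succ k ih =>
      intro hk r hr
      obtain ⟨hk1, hk2⟩ := Bool.and_eq_true_iff.1 hk
      rcases Nat.lt_succ_iff_lt_or_eq.1 hr with hr | rfl
      · exact ih hk1 r hr
      · exact Nat.eq_of_beq_eq_true hk2
  ext i
  have h1 := mask_sound hS hg A hA i
  rw [key _ h i i.2] at h1
  exact ((bit_two_pow _ _).1 h1).symm

theorem chk_sound : ∀ (t : Srch) (A : List (ℕ × ℕ)) (r M : ℕ), D.chk t A r M = true → D.Sat g A →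
    (∀ i : Fin D.U.n, (i : ℕ) = r → M.testBit (g i) = true) → g = 1 := by
  intro t
  induction t with
  | leaf => intro A r M h hA _; exact chkLeaf_sound hS hg h hA
  | node r' kids ih =>
    intro A r M h hA _
    have h' : (Nat.blt r' D.U.n && force (D.mask A r') fun M' => D.chk kids A r' M') = true := h
    rw [force_eq, Bool.and_eq_true] at h'
    refine ih A r' _ h'.2 hA fun i hi => ?_
    rw [← hi]
    exact mask_sound hS hg A hA i
  | kid q sub rest ihs ihr =>
    intro A r M h hA hM
    have h' : (Nat.blt r D.U.n && bit M q && D.chk sub (D.ext D.K r q A) D.U.n 0 &&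
        force (M ^^^ 2 ^ q) fun M' => D.chk rest A r M') = true := h
    simp only [force_eq, Bool.and_eq_true] at h'
    obtain ⟨⟨⟨hr, -⟩, hs⟩, hrest⟩ := h'
    have hr' : r < D.U.n := by simpa [Nat.blt] using hr
    by_cases e : (g ⟨r, hr'⟩ : ℕ) = q
    · refine ihs _ _ _ hs (e ▸ ext_sound hS hg D.K ⟨r, hr'⟩ A hA) fun i hi => absurd hi (by omega)
    · refine ihr _ _ _ hrest hA fun i hi => ?_
      have hiq : (g i : ℕ) ≠ q := by
        obtain rfl : i = ⟨r, hr'⟩ := Fin.ext hi
        exact e
      simp [hM i hi, Ne.symm hiq]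
  | done =>
    intro A r M h _ hM
    have h' : (Nat.blt r D.U.n && Nat.beq M 0) = true := h
    rw [Bool.and_eq_true] at h'
    have hr : r < D.U.n := by simpa [Nat.blt] using h'.1
    have := hM ⟨r, hr⟩ rfl
    rw [Nat.eq_of_beq_eq_true h'.2] at this
    simp at this

end Cfg

/-- The data at the root: images of the base point up to the symmetries. -/
structure Root where
  /-- base point -/
  r : ℕ
  /-- the roots with their search trees -/
  kids : List (ℕ × Srch)
  /-- the points in order -/
  pts : Tr
  /-- positions plus one -/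
  pos : Tr
  /-- origin of the point: `0` and a root number, or a letter plus one and an earlier position -/
  par : Tr

namespace Cfg

variable (D : Cfg) (E : Root)

/-- Check all roots. -/
noncomputable def chkKids (L : List (ℕ × Srch)) : Bool :=
  List.rec true (fun p _ ih => D.chk p.2 (D.ext D.K E.r p.1 []) D.U.n 0 && ih) L

/-- Check the covering at one position. -/
noncomputable def chkCoverAt (S : List ℕ) (k : ℕ) : Bool :=
  force (field E.pts 128 20 k) fun p => Nat.blt p D.U.n &&
    force (field E.par 128 30 k) fun v =>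
      bif Nat.beq (v % 1024) 0 then
        Nat.blt (v >>> 10) E.kids.length && Nat.beq ((E.kids.getD (v >>> 10) (0, Srch.done)).1) p
      else Nat.blt (v % 1024 - 1) S.length && Nat.blt (v >>> 10) k &&
        Nat.beq (D.U.app (field E.pts 128 20 (v >>> 10)) (S.getD (v % 1024 - 1) 0)) p

/-- Check the covering. -/
noncomputable def chkCover (S : List ℕ) : ℕ → Bool :=
  Nat.rec true (fun k ih => ih && D.chkCoverAt E S k &&
    force (field E.pos 128 20 k) fun c => Nat.ble 1 c && Nat.ble c D.U.n &&
      Nat.beq (field E.pts 128 20 (c - 1)) k)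

variable {D E} {Rel : Fin D.U.n → Fin D.U.n → Prop} {m : Equiv.Perm (Fin D.U.n)}

theorem chkKids_get : ∀ L : List (ℕ × Srch), D.chkKids E L = true →
    ∀ p ∈ L, D.chk p.2 (D.ext D.K E.r p.1 []) D.U.n 0 = true := by
  intro L
  induction L with
  | nil => intro _ p hp; simp at hp
  | cons x L ih =>
    intro h p hp
    have h' : (D.chk x.2 (D.ext D.K E.r x.1 []) D.U.n 0 && D.chkKids E L) = true := h
    rw [Bool.and_eq_true] at h'
    rcases List.mem_cons.1 hp with rfl | hp
    · exact h'.1
    · exact ih h'.2 p hp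

theorem chkCover_get (S : List ℕ) : ∀ k, D.chkCover E S k = true → ∀ j < k,
    D.chkCoverAt E S j = true ∧ 1 ≤ field E.pos 128 20 j ∧ field E.pos 128 20 j ≤ D.U.n ∧
      field E.pts 128 20 (field E.pos 128 20 j - 1) = j := by
  intro k
  induction k with
  | zero => intro _ j hj; omega
  | succ k ih =>
    intro h j hj
    have h' : (D.chkCover E S k && D.chkCoverAt E S k && force (field E.pos 128 20 k) fun c =>
      Nat.ble 1 c && Nat.ble c D.U.n && Nat.beq (field E.pts 128 20 (c - 1)) k) = true := h
    simp only [force_eq, Bool.and_eq_true] at h'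
    rcases Nat.lt_succ_iff_lt_or_eq.1 hj with hj | rfl
    · exact ih h'.1.1 j hj
    · exact ⟨h'.1.2, Nat.le_of_ble_eq_true h'.2.1.1, Nat.le_of_ble_eq_true h'.2.1.2,
        Nat.eq_of_beq_eq_true h'.2.2⟩

/-- **The search is exhaustive.** -/
theorem root_sound (hS : D.Sound Rel m) (S : List ℕ) (hr : E.r < D.U.n)
    (hkids : D.chkKids E E.kids = true) (hcov : D.chkCover E S D.U.n = true)
    (σ : ℕ → Equiv.Perm (Fin D.U.n)) (hσ : ∀ s ∈ S, D.Good Rel m (σ s))
    (hσa : ∀ s ∈ S, ∀ i : Fin D.U.n, D.U.app i s = (σ s i : ℕ))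
    (P : Equiv.Perm (Fin D.U.n) → Prop) (hP1 : P 1) (hPσ : ∀ s ∈ S, ∀ g, P g → P (σ s * g))
    {g : Equiv.Perm (Fin D.U.n)} (hg : D.Good Rel m g) : P g := by
  have hget := chkCover_get S _ hcov
  have key : ∀ k, k < D.U.n → ∀ g, D.Good Rel m g → (g ⟨E.r, hr⟩ : ℕ) = field E.pts 128 20 k → P g := by
    intro k
    induction k using Nat.strong_induction_on with
    | _ k ih =>
      intro hk g hg he
      have h' : (force (field E.pts 128 20 k) fun p => Nat.blt p D.U.n &&
          force (field E.par 128 30 k) fun v =>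
            bif Nat.beq (v % 1024) 0 then
              Nat.blt (v >>> 10) E.kids.length && Nat.beq ((E.kids.getD (v >>> 10) (0, Srch.done)).1) p
            else Nat.blt (v % 1024 - 1) S.length && Nat.blt (v >>> 10) k &&
              Nat.beq (D.U.app (field E.pts 128 20 (v >>> 10)) (S.getD (v % 1024 - 1) 0)) p) = true :=
        (hget k hk).1
      simp only [force_eq, Bool.and_eq_true] at h'
      obtain ⟨-, h'⟩ := h'
      generalize field E.par 128 30 k = v at h'
      rw [← he] at h'
      cases hv : Nat.beq (v % 1024) 0 with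
      | true =>
        simp only [hv, cond_true, Bool.and_eq_true] at h'
        have hl : v >>> 10 < E.kids.length := by simpa [Nat.blt] using h'.1
        have e : E.kids[v >>> 10].1 = (g ⟨E.r, hr⟩ : ℕ) := by
          have := Nat.eq_of_beq_eq_true h'.2
          rwa [List.getD_eq_getElem _ _ hl] at this
        have hc := chkKids_get _ hkids _ (List.getElem_mem hl)
        rw [e] at hc
        have hg1 := chk_sound hS hg _ _ _ _ hc
          (ext_sound hS hg D.K ⟨E.r, hr⟩ [] (fun p hp => by simp at hp))
          fun i hi => absurd hi (by omega)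
        rw [hg1]
        exact hP1
      | false =>
        simp only [hv, cond_false, Bool.and_eq_true] at h'
        obtain ⟨⟨hl, hlt⟩, happ⟩ := h'
        have hl : v % 1024 - 1 < S.length := by simpa [Nat.blt] using hl
        have hlt : v >>> 10 < k := by simpa [Nat.blt] using hlt
        rw [List.getD_eq_getElem _ _ hl] at happ
        have hsS := List.getElem_mem hl
        generalize S[v % 1024 - 1] = s at happ hsS
        have hlt' : v >>> 10 < D.U.n := lt_trans hlt hk
        have hp : field E.pts 128 20 (v >>> 10) < D.U.n := by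
          have h'' : (force (field E.pts 128 20 (v >>> 10)) fun p => Nat.blt p D.U.n &&
              force (field E.par 128 30 (v >>> 10)) fun w =>
                bif Nat.beq (w % 1024) 0 then
                  Nat.blt (w >>> 10) E.kids.length && Nat.beq ((E.kids.getD (w >>> 10) (0, Srch.done)).1) p
                else Nat.blt (w % 1024 - 1) S.length && Nat.blt (w >>> 10) (v >>> 10) &&
                  Nat.beq (D.U.app (field E.pts 128 20 (w >>> 10)) (S.getD (w % 1024 - 1) 0)) p) = true :=
            (hget _ hlt').1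
          simp only [force_eq, Bool.and_eq_true] at h''
          simpa [Nat.blt] using h''.1
        have e : σ s ⟨_, hp⟩ = g ⟨E.r, hr⟩ := by
          apply Fin.ext
          rw [← hσa s hsS]
          exact Nat.eq_of_beq_eq_true happ
        have h2 := ih _ hlt hlt' ((σ s)⁻¹ * g) ((hσ s hsS).inv.mul hg) (by
          rw [Equiv.Perm.mul_apply, ← e]; exact congrArg Fin.val ((σ s).symm_apply_apply _))
        have := hPσ s hsS _ h2
        rwa [mul_inv_cancel_left] at this
  obtain ⟨-, h1, h2, h3⟩ := hget _ (g ⟨E.r, hr⟩).2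
  exact key _ (by omega) g hg h3.symm

end Cfg

end CfsgLib.KnownA.SuzOut
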