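import Cfsg.Agent.Lib.KnownA.SuzOut.Defs

set_option autoImplicit false
set_option maxRecDepth 100000

namespace CfsgLib.KnownA.SuzOut

open CfsgLib.InvChar.Coset

theorem chk_derived : SuzA.table.chkDerived uTable uWords 1782 0 = true := by decide +kernel

theorem chk_tau : chkFrom chkTauAt 1782 0 = true := by decide +kernel

theorem chk_pos : chkFrom chkPosAt 1782 0 = true := by decide +kernel

/-- The identities between products of the eight letters. -/
def eqns : List (List ℕ × List ℕ) :=
  [([0, 1], []), ([2, 3], []), ([4, 5], []), ([6, 6], []), (List.replicate 11 0, []), (List.replicate 10 2, []),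
    ([2, 0, 3], [0, 0]), ([4, 2, 5], [2, 2, 2]), ([6, 2], [2, 6]), ([7, 0], [0, 7]), ([7, 2], [2, 7]),
    ([7, 6], [6, 7]), ([7, 4, 7], [4, 2, 2, 2, 2, 2])]

theorem chk_eqns : eqns.all (fun e => chkEq e.1.reverse e.2.reverse 1782 0) = true := by decide +kernel

/-- The eighteenth power of a product. -/
def testWord (i j : ℕ) : List ℕ := (List.replicate 18 ([0, 4] ++ List.replicate i 2 ++ List.replicate j 6)).flatten.reverse

theorem chk_test : ∀ i < 10, ∀ j < 2, (j = 0 ∧ (i = 0 ∨ i = 5)) ∨ ∃ w < 2, uTable.follow (testWord i j) w ≠ w := by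
  decide +kernel

end CfsgLib.KnownA.SuzOut
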