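import Cfsg.Agent.Lib.KnownA.SuzOut.Data
import Cfsg.Agent.Lib.InvChar.SporData.SuzA.Points
import Cfsg.Agent.Lib.InvChar.SporData.SuzA.Data

/-!
# The Boolean checks for the outer automorphism group of Suz
-/

set_option autoImplicit false
set_option maxRecDepth 100000

namespace CfsgLib.KnownA.SuzOut

open CfsgLib.InvChar.Coset

/-- Two words of the eight letters act alike on `cnt` points from `i`. -/
noncomputable def chkEq (L M : List ℕ) (cnt : ℕ) : ℕ → Bool :=
  Nat.rec (fun _ => true)
    (fun _ ih i => Nat.beq (uTable.follow L i) (uTable.follow M i) && force (i + 1) ih) cnt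

theorem chkEq_get (L M : List ℕ) : ∀ cnt i, chkEq L M cnt i = true →
    ∀ j, i ≤ j → j < i + cnt → uTable.follow L j = uTable.follow M j := by
  intro cnt
  induction cnt with
  | zero => intro i _ j h1 h2; omega
  | succ cnt ih =>
    intro i h j h1 h2
    have h' : (Nat.beq (uTable.follow L i) (uTable.follow M i) &&
        force (i + 1) fun i' => chkEq L M cnt i') = true := h
    simp only [force_eq, Bool.and_eq_true] at h'
    rcases eq_or_lt_of_le h1 with rfl | h3
    · exact Nat.eq_of_beq_eq_true h'.1
    · exact ih _ h'.2 j h3 (by omega)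

/-- A letter of the table against the conjugate of a generator by the outer permutation, at a point. -/
noncomputable def chkTauAt (i : ℕ) : Bool :=
  Nat.blt (uTable.app i 7) 1782 && Nat.beq (uTable.app (uTable.app i 7) 7) i &&
    Nat.rec (motive := fun _ => Bool) true (fun a ih => ih &&
      Nat.beq (uTable.app (SuzA.table.app (uTable.app i 7) a) 7) (SuzA.table.follow (tauWords.getD a []) i)) 7

/-- The generators as words in the elements, at a point. -/
noncomputable def chkGenAt (i : ℕ) : Bool :=
  Nat.rec (motive := fun _ => Bool) true (fun a ih => ih &&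
    Nat.beq (uTable.follow (genWords.getD a []) i) (SuzA.table.app i a)) 7

/-- A check at `cnt` points from `i`. -/
noncomputable def chkFrom (f : ℕ → Bool) (cnt : ℕ) : ℕ → Bool :=
  Nat.rec (fun _ => true) (fun _ ih i => f i && force (i + 1) ih) cnt

theorem chkFrom_get (f : ℕ → Bool) : ∀ cnt i, chkFrom f cnt i = true →
    ∀ j, i ≤ j → j < i + cnt → f j = true := by
  intro cnt
  induction cnt with
  | zero => intro i _ j h1 h2; omega
  | succ cnt ih =>
    intro i h j h1 h2
    have h' : (f i && force (i + 1) fun i' => chkFrom f cnt i') = true := h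
    simp only [force_eq, Bool.and_eq_true] at h'
    rcases eq_or_lt_of_le h1 with rfl | h3
    · exact h'.1
    · exact ih _ h'.2 j h3 (by omega)

/-- The image of a bit mask under a letter. -/
noncomputable def img (R a : ℕ) : ℕ :=
  Nat.rec (motive := fun _ => ℕ) 0
    (fun q ih => bif bit R q then force (SuzA.table.app q a) fun j => ih ||| 2 ^ j else ih) 1782

/-- One row against its parent. -/
noncomputable def chkRowAt (k : ℕ) : Bool :=
  force (field rowPar 128 30 k) fun v =>
    Nat.blt (v >>> 10) k && Nat.blt (v % 1024) 7 &&
      Nat.beq (SuzA.table.app (field rowPts 128 20 (v >>> 10)) (v % 1024)) (field rowPts 128 20 k) &&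
      Nat.beq (img (rowTr.get (v >>> 10)) (v % 1024)) (rowTr.get k)

/-- The positions of the rows at a point. -/
noncomputable def chkPosAt (p : ℕ) : Bool :=
  force (field rowPos 128 20 p) fun c =>
    Nat.beq c 0 || (Nat.ble c rowCount && Nat.beq (field rowPts 128 20 (c - 1)) p)

/-- The configuration with the given letter and number of steps. -/
noncomputable def cfg (c K : ℕ) : Cfg := ⟨uTable, c, K, rowPos, rowTr⟩

end CfsgLib.KnownA.SuzOut
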