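import Cfsg.Agent.Lib.KnownA.SuzOut.Defs
import Cfsg.Agent.Lib.KnownA.SuzOut.DataX

set_option autoImplicit false
set_option maxRecDepth 100000

namespace CfsgLib.KnownA.SuzOut

open CfsgLib.InvChar.Coset

theorem coverX : (cfg 0 11).chkCover rootX [0, 7] 1782 = true := by decide +kernel

theorem kidsX : (cfg 0 11).chkKids rootX rootX.kids = true := by decide +kernel

end CfsgLib.KnownA.SuzOut
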