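import Cfsg.Agent.Lib.KnownA.SuzOut.Perms
import Cfsg.Agent.Lib.KnownA.SuzOut.SearchX
import Cfsg.Agent.Lib.KnownA.SuzOut.SearchN
import Cfsg.Prelude.Def_KGroupFacts
import Mathlib.GroupTheory.Sylow

/-!
# The outer automorphism group of Suz has order 2
-/

set_option autoImplicit false
set_option maxRecDepth 100000

namespace CfsgLib.KnownA.SuzOut

open CfsgLib.InvChar.Coset CfsgLib.InvChar.SporSuz Cfsg.Spor

/-- The element of order 11. -/
noncomputable abbrev ex : Suz := elt 0
/-- The element of order 10 normalising its group. -/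
noncomputable abbrev en : Suz := elt 2
/-- The third generator. -/
noncomputable abbrev ey : Suz := elt 4
/-- The involution centralising `en`. -/
noncomputable abbrev ez : Suz := elt 6

theorem map_elt (L : List ℕ) (hL : ∀ a ∈ L, a < 7) : rep (L.map elt).prod = (L.map letter).prod := by
  rw [map_list_prod, List.map_map]
  refine congrArg List.prod (List.map_congr_left fun a ha => ?_)
  have := hL a ha
  simp [letter, Nat.ne_of_lt this]

theorem geqn (A B : List ℕ) (h : (A, B) ∈ eqns) (hA : ∀ a ∈ A, a < 7) (hB : ∀ a ∈ B, a < 7) :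
    (A.map elt).prod = (B.map elt).prod :=
  card_eq.2 (by rw [map_elt A hA, map_elt B hB, eqn A B h])

theorem elt1 : elt 1 = ex⁻¹ := by
  have h := geqn [0, 1] [] (by simp [eqns]) (by simp) (by simp)
  exact (inv_eq_of_mul_eq_one_right (by simpa using h)).symm

theorem elt3 : elt 3 = en⁻¹ := by
  have h := geqn [2, 3] [] (by simp [eqns]) (by simp) (by simp)
  exact (inv_eq_of_mul_eq_one_right (by simpa using h)).symm

theorem elt5 : elt 5 = ey⁻¹ := by
  have h := geqn [4, 5] [] (by simp [eqns]) (by simp) (by simp)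
  exact (inv_eq_of_mul_eq_one_right (by simpa using h)).symm

theorem ez_sq : ez * ez = 1 := by
  simpa using geqn [6, 6] [] (by simp [eqns]) (by simp) (by simp)

theorem ex_pow : ex ^ 11 = 1 := by
  have h := geqn (List.replicate 11 0) [] (by simp [eqns]) (by simp) (by simp)
  rwa [List.map_replicate, List.prod_replicate] at h

theorem en_pow : en ^ 10 = 1 := by
  have h := geqn (List.replicate 10 2) [] (by simp [eqns]) (by simp) (by simp)
  rwa [List.map_replicate, List.prod_replicate] at h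

theorem en_conj_ex : en * ex * en⁻¹ = ex ^ 2 := by
  have h := geqn [2, 0, 3] [0, 0] (by simp [eqns]) (by simp) (by simp)
  simp only [List.map_cons, List.map_nil, List.prod_cons, List.prod_nil, mul_one, elt3] at h
  rw [pow_two, ← h, mul_assoc]

theorem ey_conj_en : ey * en * ey⁻¹ = en ^ 3 := by
  have h := geqn [4, 2, 5] [2, 2, 2] (by simp [eqns]) (by simp) (by simp)
  simp only [List.map_cons, List.map_nil, List.prod_cons, List.prod_nil, mul_one, elt5] at h
  rw [pow_succ, pow_two, mul_assoc en en en, ← h, mul_assoc]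

theorem ez_comm : Commute ez en := by
  have h := geqn [6, 2] [2, 6] (by simp [eqns]) (by simp) (by simp)
  show ez * en = en * ez
  simpa using h

theorem tau_comm {k : ℕ} (h : ([7, k], [k, 7]) ∈ eqns) (hk : k < 7) :
    Commute tauP (rep (elt k)) := by
  have h' := eqn _ _ h
  simp only [List.map_cons, List.map_nil, List.prod_cons, List.prod_nil, mul_one] at h'
  simpa [letter, Nat.ne_of_lt hk, Commute, SemiconjBy] using h'

theorem theta_fix {k : ℕ} (h : ([7, k], [k, 7]) ∈ eqns) (hk : k < 7) : theta (elt k) = elt k := by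
  apply card_eq.2
  rw [rep_theta, (tau_comm h hk).eq, mul_assoc, tauP_mul_self, mul_one]

theorem theta_ey : theta ey = ey * en ^ 5 := by
  apply card_eq.2
  have h := eqn [7, 4, 7] [4, 2, 2, 2, 2, 2] (by simp [eqns])
  simp only [List.map_cons, List.map_nil, List.prod_cons, List.prod_nil, mul_one] at h
  simp only [letter, if_true, show (4 : ℕ) = 7 ↔ False by decide, show (2 : ℕ) = 7 ↔ False by decide,
    if_false] at h
  rw [rep_theta, map_mul, map_pow, mul_assoc, h]
  simp [pow_succ, mul_assoc]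

theorem ne_one_of_moves {g : Suz} {w v : ℕ} (hw : w < 1782) (h : (rep g (⟨w, hw⟩ : Pt) : ℕ) = v) (hv : v ≠ w) :
    g ≠ 1 := fun e => hv (by rw [← h, e, map_one]; rfl)

theorem ex_ne_one : ex ≠ 1 :=
  ne_one_of_moves (w := 0) (by norm_num) (app_elt (show 0 < 7 by norm_num) ⟨0, by decide⟩).symm
    (by decide +kernel)

theorem orderOf_ex : orderOf ex = 11 :=
  haveI : Fact (Nat.Prime 11) := ⟨by norm_num⟩
  orderOf_eq_prime ex_pow ex_ne_one

/-- The permutation of the first letter as an element of the search. -/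
theorem sound (c K : ℕ) (hc : c < 7) : (cfg c K).Sound Rel (rep (elt c)) where
  app i := app_elt hc i
  rows p hp q := by
    have h := row_of_pos p hp q
    show bit (force (field rowPos 128 20 p - 1) fun k => rowTr.get k) q = true ↔ _
    rw [force_eq]
    exact h

theorem good_letter (c K : ℕ) {s : ℕ} (hcomm : Commute (letter s) (rep (elt c))) :
    (cfg c K).Good Rel (rep (elt c)) (letter s) := by
  refine ⟨fun i => Equiv.ext_iff.1 hcomm.eq i, fun p q => ?_⟩
  by_cases h : s = 7
  · subst h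
    exact rel_tau p q
  · rw [show letter s = rep (elt s) from if_neg h]
    exact rel_rep _ p q

theorem good_rep (c K : ℕ) {g : Suz} (hg : Commute g (elt c)) :
    (cfg c K).Good Rel (rep (elt c)) (rep g) :=
  ⟨fun i => Equiv.ext_iff.1 (hg.map rep).eq i, fun p q => rel_rep g p q⟩

theorem centralizer_ex {g : Suz} (hg : Commute g ex) : ∃ i, g = ex ^ i := by
  have hP := Cfg.root_sound (D := cfg 0 11) (E := rootX) (sound 0 11 (by norm_num)) [0, 7]
    (by decide +kernel) kidsX coverX letter
    (fun s hs => by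
      refine good_letter 0 11 ?_
      simp only [List.mem_cons, List.not_mem_nil, or_false] at hs
      rcases hs with rfl | rfl
      · exact Commute.refl _
      · exact tau_comm (by simp [eqns]) (by norm_num))
    (fun s hs i => app_letter ((by decide : ∀ s ∈ [0, 7], s < 8) s hs) i)
    (fun π => ∃ i : ℕ, π = rep (ex ^ i) ∨ π = tauP * rep (ex ^ i))
    ⟨0, Or.inl (by simp; rfl)⟩
    (fun s hs π hπ => by
      have hc : Commute (rep ex) tauP := (tau_comm (k := 0) (by simp [eqns]) (by norm_num)).symm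
      simp only [List.mem_cons, List.not_mem_nil, or_false] at hs
      obtain ⟨i, hπ⟩ := hπ
      rcases hs with rfl | rfl
      · refine ⟨i + 1, hπ.imp ?_ ?_⟩ <;> rintro rfl <;> rw [pow_succ', map_mul]
        · rfl
        · show rep ex * (tauP * rep (ex ^ i)) = _
          rw [← mul_assoc, hc.eq, mul_assoc]
      · refine ⟨i, hπ.symm.imp ?_ ?_⟩ <;> rintro rfl
        · show tauP * (tauP * rep (ex ^ i)) = _
          rw [← mul_assoc, tauP_mul_self, one_mul]
        · rfl)
    (good_rep 0 11 hg)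
  obtain ⟨i, h | h⟩ := hP
  · exact ⟨i, card_eq.2 h⟩
  · exact absurd (show rep (g * (ex ^ i)⁻¹) = tauP by rw [map_mul, h, map_inv, mul_inv_cancel_right])
      (tau_not_rep _)

theorem centralizer_en {g : Suz} (hg : Commute g en) : ∃ i < 10, ∃ j < 2, g = en ^ i * ez ^ j := by
  have hP := Cfg.root_sound (D := cfg 2 10) (E := rootN) (sound 2 10 (by norm_num)) [2, 6, 7]
    (by decide +kernel) kidsN coverN letter
    (fun s hs => by
      refine good_letter 2 10 ?_
      simp only [List.mem_cons, List.not_mem_nil, or_false] at hs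
      rcases hs with rfl | rfl | rfl
      · exact Commute.refl _
      · exact ez_comm.map rep
      · exact tau_comm (by simp [eqns]) (by norm_num))
    (fun s hs i => app_letter ((by decide : ∀ s ∈ [2, 6, 7], s < 8) s hs) i)
    (fun π => ∃ i j : ℕ, π = rep (en ^ i * ez ^ j) ∨ π = tauP * rep (en ^ i * ez ^ j))
    ⟨0, 0, Or.inl (by simp; rfl)⟩
    (fun s hs π hπ => by
      have hcn : Commute (rep en) tauP := (tau_comm (k := 2) (by simp [eqns]) (by norm_num)).symm
      have hcz : Commute (rep ez) tauP := (tau_comm (k := 6) (by simp [eqns]) (by norm_num)).symm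
      simp only [List.mem_cons, List.not_mem_nil, or_false] at hs
      obtain ⟨i, j, hπ⟩ := hπ
      rcases hs with rfl | rfl | rfl
      · refine ⟨i + 1, j, hπ.imp ?_ ?_⟩ <;> rintro rfl <;> rw [pow_succ', mul_assoc, map_mul rep en]
        · rfl
        · show rep en * (tauP * rep (en ^ i * ez ^ j)) = _
          rw [← mul_assoc, hcn.eq, mul_assoc]
      · refine ⟨i, j + 1, hπ.imp ?_ ?_⟩ <;> rintro rfl <;>
          rw [pow_succ', ← mul_assoc, ← (ez_comm.pow_right i).eq, mul_assoc, map_mul rep ez]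
        · rfl
        · show rep ez * (tauP * rep (en ^ i * ez ^ j)) = _
          rw [← mul_assoc, hcz.eq, mul_assoc]
      · refine ⟨i, j, hπ.symm.imp ?_ ?_⟩ <;> rintro rfl
        · show tauP * (tauP * rep (en ^ i * ez ^ j)) = _
          rw [← mul_assoc, tauP_mul_self, one_mul]
        · rfl)
    (good_rep 2 10 hg)
  obtain ⟨i, j, h⟩ := hP
  have hz : ez ^ 2 = 1 := by rw [pow_two, ez_sq]
  refine ⟨i % 10, Nat.mod_lt _ (by norm_num), j % 2, Nat.mod_lt _ (by norm_num), ?_⟩
  rw [← pow_eq_pow_mod i en_pow, ← pow_eq_pow_mod j hz]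
  rcases h with h | h
  · exact card_eq.2 h
  · exact absurd (show rep (g * (en ^ i * ez ^ j)⁻¹) = tauP by
      rw [map_mul, h, map_inv, mul_inv_cancel_right]) (tau_not_rep _)

theorem filter_y {i j : ℕ} (hi : i < 10) (hj : j < 2) (h : (ex * (ey * (en ^ i * ez ^ j))) ^ 18 = 1) :
    j = 0 ∧ (i = 0 ∨ i = 5) := by
  refine (chk_test i hi j hj).resolve_right ?_
  rintro ⟨w, hw, hne⟩
  apply hne
  have hlt : ∀ a ∈ testWord i j, a < 8 := by
    intro a ha
    rw [testWord, List.mem_reverse, List.mem_flatten] at ha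
    obtain ⟨l, hl, ha⟩ := ha
    rw [List.eq_of_mem_replicate hl] at ha
    simp only [List.mem_append, List.mem_cons, List.not_mem_nil, or_false, List.mem_replicate] at ha
    omega
  have := follow_letters _ hlt (⟨w, show w < 1782 by omega⟩ : Pt)
  rw [this, testWord, List.reverse_reverse, List.map_flatten, List.map_replicate, List.prod_flatten,
    List.map_replicate, List.prod_replicate]
  have e := congrArg rep h
  simp only [map_pow, map_mul, map_one] at e
  have e' : ((List.map letter ([0, 4] ++ List.replicate i 2 ++ List.replicate j 6)).prod) =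
      rep ex * (rep ey * (rep en ^ i * rep ez ^ j)) := by
    simp [letter, mul_assoc]
  rw [e', e]
  rfl

theorem closure_xny : Subgroup.closure ({ex, en, ey} : Set Suz) = ⊤ := by
  rw [eq_top_iff, ← closure_gen, Subgroup.closure_le]
  rintro _ ⟨a, ha, rfl⟩
  have ha' : a < genWords.length := ha
  have hL : ∀ b ∈ genWords.getD a [], b < 6 := by
    rw [List.getD_eq_getElem _ _ ha']
    exact (by decide +kernel : ∀ L ∈ genWords, ∀ b ∈ L, b < 6) _ (List.getElem_mem _)
  have key : gen a = ((genWords.getD a []).reverse.map elt).prod := by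
    apply card_eq.2
    rw [map_elt _ fun b hb => (hL b (List.mem_reverse.1 hb)).trans (by norm_num)]
    refine Equiv.ext fun i => Fin.ext ?_
    rw [← follow_letters _ (fun b hb => (hL b hb).trans (by norm_num)) i, ← follow_gen ha i]
    have hi := chkFrom_get chkGenAt 1782 0 chk_gen i (Nat.zero_le _) (lt_of_lt_of_eq i.2 (zero_add _).symm)
    exact (Nat.eq_of_beq_eq_true (natRec_all (fun a => Nat.beq (uTable.follow (genWords.getD a []) i)
      (SuzA.table.app i a)) 7 hi a ha)).symm
  rw [key]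
  refine list_prod_mem fun z hz => ?_
  obtain ⟨b, hb, rfl⟩ := List.mem_map.1 hz
  have := hL b (List.mem_reverse.1 hb)
  interval_cases b
  · exact Subgroup.subset_closure (by simp)
  · rw [elt1]; exact inv_mem (Subgroup.subset_closure (by simp))
  · exact Subgroup.subset_closure (by simp)
  · rw [elt3]; exact inv_mem (Subgroup.subset_closure (by simp))
  · exact Subgroup.subset_closure (by simp)
  · rw [elt5]; exact inv_mem (Subgroup.subset_closure (by simp))

theorem aut_ext {φ ψ : MulAut Suz} (hx : φ ex = ψ ex) (hn : φ en = ψ en) (hy : φ ey = ψ ey) : φ = ψ := by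
  refine MulEquiv.ext fun g => ?_
  have := MonoidHom.eq_of_eqOn_dense (f := φ.toMonoidHom) (g := ψ.toMonoidHom) closure_xny ?_
  · exact DFunLike.congr_fun this g
  · rintro z (rfl | rfl | rfl)
    · exact hx
    · exact hn
    · exact hy

theorem ex_zpow {g : Suz} (hg : g ∈ Subgroup.zpowers ex) : ∃ k < 11, g = ex ^ k := by
  haveI : Finite Suz := card_le.1
  classical
  obtain ⟨k, hk, rfl⟩ : ∃ k < orderOf ex, g = ex ^ k := by
    obtain ⟨k, hk, e⟩ := Finset.mem_image.1 (((isOfFinOrder_of_finite ex).mem_zpowers_iff_mem_range_orderOf).1 hg)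
    exact ⟨k, Finset.mem_range.1 hk, e.symm⟩
  exact ⟨k, orderOf_ex ▸ hk, rfl⟩

theorem en_pow_conj (i : ℕ) : en ^ i * ex * (en ^ i)⁻¹ = ex ^ 2 ^ i := by
  induction i with
  | zero => simp
  | succ i ih =>
    rw [pow_succ', show en * en ^ i * ex * (en * en ^ i)⁻¹ = en * (en ^ i * ex * (en ^ i)⁻¹) * en⁻¹ by group,
      ih, ← conj_pow, en_conj_ex, ← pow_mul, ← pow_succ']

theorem two_generates : ∀ k < 11, k ≠ 0 → ∃ i < 10, 2 ^ i * k % 11 = 1 := by decide

theorem fix_ex (φ : MulAut Suz) : ∃ g : Suz, g * φ ex * g⁻¹ = ex := by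
  haveI : Finite Suz := card_le.1
  haveI : Fact (Nat.Prime 11) := ⟨by norm_num⟩
  have hc : ∀ g : Suz, orderOf g = 11 → Nat.card (Subgroup.zpowers g) = 11 ^ (Nat.card Suz).factorization 11 := by
    intro g hg
    have h11 : (448345497600 : ℕ).factorization 11 = 1 := by
      rw [Nat.factorization_def _ (by norm_num), show (448345497600 : ℕ) = 40758681600 * 11 from rfl,
        padicValNat.mul (by norm_num) (by norm_num), padicValNat.eq_zero_of_not_dvd (by norm_num),
        padicValNat.self (by norm_num)]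
    rw [Nat.card_zpowers, hg, card_eq.1, h11, pow_one]
  have ho : orderOf (φ ex) = 11 := by rw [MulEquiv.orderOf_eq, orderOf_ex]
  obtain ⟨g, hg⟩ := MulAction.exists_smul_eq Suz (Sylow.ofCard _ (hc _ ho)) (Sylow.ofCard _ (hc _ orderOf_ex))
  have hmem : g * φ ex * g⁻¹ ∈ Subgroup.zpowers ex := by
    have h1 : g * φ ex * g⁻¹ ∈ ((g • Sylow.ofCard _ (hc _ ho) : Sylow 11 Suz) : Subgroup Suz) :=
      ⟨φ ex, Subgroup.mem_zpowers _, rfl⟩
    rw [hg] at h1
    exact h1
  obtain ⟨k, hk, e⟩ := ex_zpow hmem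
  have hk0 : k ≠ 0 := by
    rintro rfl
    rw [pow_zero, conj_eq_one_iff, MulEquiv.map_eq_one_iff] at e
    exact ex_ne_one e
  obtain ⟨i, -, hi⟩ := two_generates k hk hk0
  refine ⟨en ^ i * g, ?_⟩
  rw [show en ^ i * g * φ ex * (en ^ i * g)⁻¹ = en ^ i * (g * φ ex * g⁻¹) * (en ^ i)⁻¹ by group, e,
    ← conj_pow, en_pow_conj, ← pow_mul, pow_eq_pow_mod _ ex_pow, hi, pow_one]

theorem fix_ex_en (φ : MulAut Suz) : ∃ g : Suz, g * φ ex * g⁻¹ = ex ∧ g * φ en * g⁻¹ = en := by
  obtain ⟨g, hg⟩ := fix_ex φ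
  set ψ : MulAut Suz := MulAut.conj g * φ with hψ
  have hψx : ψ ex = ex := hg
  have h2 : ψ en * ex * (ψ en)⁻¹ = ex ^ 2 := by
    have := congrArg ψ en_conj_ex
    rwa [map_mul, map_mul, map_inv, map_pow, hψx] at this
  obtain ⟨i, hi⟩ := centralizer_ex (g := en⁻¹ * ψ en) (by
    show en⁻¹ * ψ en * ex = ex * (en⁻¹ * ψ en)
    have h3 : ψ en * ex = ex ^ 2 * ψ en := by rw [← h2]; group
    rw [mul_assoc, h3, ← en_conj_ex]
    group)
  have hsix : en⁻¹ * ex * en = ex ^ 6 := by
    have e : en * ex ^ 6 * en⁻¹ = ex := by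
      rw [← conj_pow, en_conj_ex, ← pow_mul, pow_eq_pow_mod _ ex_pow]; simp
    calc en⁻¹ * ex * en = en⁻¹ * (en * ex ^ 6 * en⁻¹) * en := by rw [e]
      _ = ex ^ 6 := by group
  refine ⟨ex ^ (2 * i) * g, ?_, ?_⟩
  · rw [show ex ^ (2 * i) * g * φ ex * (ex ^ (2 * i) * g)⁻¹ =
      ex ^ (2 * i) * (g * φ ex * g⁻¹) * (ex ^ (2 * i))⁻¹ by group, hg]
    rw [(Commute.self_pow ex (2 * i)).symm.eq, mul_inv_cancel_right]
  · have hψn : g * φ en * g⁻¹ = en * ex ^ i := by
      have : en⁻¹ * (g * φ en * g⁻¹) = ex ^ i := hi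
      rw [← this]; group
    have hmove : ex ^ (2 * i) * en = en * ex ^ (6 * (2 * i)) := by
      have : (en⁻¹ * ex * en) ^ (2 * i) = ex ^ (6 * (2 * i)) := by rw [hsix, ← pow_mul]
      have e : (en⁻¹ * ex * en⁻¹⁻¹) ^ (2 * i) = ex ^ (6 * (2 * i)) := by rwa [inv_inv]
      rw [conj_pow, inv_inv] at e
      rw [← e]; group
    rw [show ex ^ (2 * i) * g * φ en * (ex ^ (2 * i) * g)⁻¹ =
      ex ^ (2 * i) * (g * φ en * g⁻¹) * (ex ^ (2 * i))⁻¹ by group, hψn, ← mul_assoc, hmove,
      mul_assoc en, ← pow_add, mul_inv_eq_iff_eq_mul]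
    congr 1
    exact pow_eq_pow_iff_modEq.2 (by rw [orderOf_ex]; unfold Nat.ModEq; omega)

theorem fixing_cases (ψ : MulAut Suz) (hx : ψ ex = ex) (hn : ψ en = en) : ψ = 1 ∨ ψ = theta := by
  have h1 : ψ ey * en * (ψ ey)⁻¹ = en ^ 3 := by
    have := congrArg ψ ey_conj_en
    rwa [map_mul, map_mul, map_inv, map_pow, hn] at this
  obtain ⟨i, hi, j, hj, hc⟩ := centralizer_en (g := ey⁻¹ * ψ ey) (by
    show ey⁻¹ * ψ ey * en = en * (ey⁻¹ * ψ ey)
    have h3 : ψ ey * en = en ^ 3 * ψ ey := by rw [← h1]; group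
    rw [mul_assoc, h3, ← ey_conj_en]
    group)
  have hy : ψ ey = ey * (en ^ i * ez ^ j) := by rw [← hc]; group
  have hxy : (ex * ey) ^ 18 = 1 := by
    apply card_eq.2
    refine Equiv.ext fun p => Fin.ext ?_
    have h : uTable.follow (testWord 0 0) p = p := chkFrom_get
      (fun p => Nat.beq (uTable.follow (testWord 0 0) p) p) 1782 0 (by decide +kernel) p (Nat.zero_le _)
      (lt_of_lt_of_eq p.2 (zero_add _).symm) |> Nat.eq_of_beq_eq_true
    rw [follow_letters _ (by decide +kernel) p, testWord, List.reverse_reverse, List.map_flatten,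
      List.map_replicate, List.prod_flatten, List.map_replicate, List.prod_replicate] at h
    rw [map_pow, map_one]
    simpa [letter, map_mul] using h
  have := congrArg ψ hxy
  rw [map_pow, map_one, map_mul, hx, hy] at this
  obtain ⟨rfl, rfl | rfl⟩ := filter_y hi hj this
  · exact Or.inl (aut_ext (by simpa using hx) (by simpa using hn) (by simpa using hy))
  · refine Or.inr (aut_ext ?_ ?_ ?_)
    · rw [hx, theta_fix (k := 0) (by simp [eqns]) (by norm_num)]
    · rw [hn, theta_fix (k := 2) (by simp [eqns]) (by norm_num)]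
    · rw [hy, theta_ey, pow_zero, mul_one]

theorem theta_ne_one : theta ≠ 1 := by
  intro e
  have h : ey * en ^ 5 = ey := by rw [← theta_ey, e]; rfl
  have h5 : en ^ 5 = 1 := mul_eq_left.1 h
  have he : en * ex * en⁻¹ = ex ^ 2 := en_conj_ex
  have hx := en_pow_conj 5
  rw [h5, one_mul, inv_one, mul_one] at hx
  have : orderOf ex ∣ 31 := orderOf_dvd_of_pow_eq_one (by
    have e32 : ex ^ (2 ^ 5) = ex := hx.symm
    rw [show (2 : ℕ) ^ 5 = 31 + 1 from rfl, pow_succ] at e32
    exact mul_eq_right.1 e32)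
  rw [orderOf_ex] at this
  norm_num at this

theorem theta_not_inner : theta ∉ Cfsg.Inn Suz := by
  rintro ⟨g, hg⟩
  have hx : g * ex * g⁻¹ = ex := by
    have := DFunLike.congr_fun hg ex
    rwa [theta_fix (k := 0) (by simp [eqns]) (by norm_num)] at this
  have hn : g * en * g⁻¹ = en := by
    have := DFunLike.congr_fun hg en
    rwa [theta_fix (k := 2) (by simp [eqns]) (by norm_num)] at this
  obtain ⟨i, rfl⟩ := centralizer_ex (mul_inv_eq_iff_eq_mul.1 hx)
  have h2 : en * ex ^ i * en⁻¹ = ex ^ i := by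
    have e : ex ^ i * en = en * ex ^ i := mul_inv_eq_iff_eq_mul.1 hn
    rw [← e, mul_inv_cancel_right]
  rw [← conj_pow, en_conj_ex, ← pow_mul, pow_eq_pow_iff_modEq, orderOf_ex] at h2
  have hi0 : ex ^ i = 1 := by
    rw [← pow_zero ex, pow_eq_pow_iff_modEq, orderOf_ex]
    unfold Nat.ModEq at h2 ⊢
    omega
  rw [hi0, map_one] at hg
  exact theta_ne_one hg.symm

/-- **`Out(Suz)` has order 2.** -/
theorem card_out : Nat.card (Cfsg.Out Suz) = 2 := by
  haveI : Finite Suz := card_le.1
  have hcases : ∀ q : Cfsg.Out Suz, q = 1 ∨ q = QuotientGroup.mk theta := by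
    intro q
    obtain ⟨φ, rfl⟩ := QuotientGroup.mk_surjective q
    obtain ⟨g, hx, hn⟩ := fix_ex_en φ
    have hconj : ((MulAut.conj g : MulAut Suz) : Cfsg.Out Suz) = 1 :=
      (QuotientGroup.eq_one_iff _).2 ⟨g, rfl⟩
    have hq : (φ : Cfsg.Out Suz) = ((MulAut.conj g * φ : MulAut Suz) : Cfsg.Out Suz) := by
      rw [QuotientGroup.mk_mul, hconj, one_mul]
    rcases fixing_cases (MulAut.conj g * φ) hx hn with h | h
    · exact Or.inl (by rw [hq, h]; rfl)
    · exact Or.inr (by rw [hq, h])
  have hne : (1 : Cfsg.Out Suz) ≠ QuotientGroup.mk theta := fun e =>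
    theta_not_inner ((QuotientGroup.eq_one_iff _).1 e.symm)
  rw [Nat.card_eq_two_iff]
  exact ⟨1, QuotientGroup.mk theta, hne, by
    ext q; simpa using hcases q⟩

end CfsgLib.KnownA.SuzOut
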