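import Cfsg.Agent.Lib.InvChar.SporSuzSimple
import Cfsg.Agent.Lib.KnownA.SuzOut.ChkU
import Cfsg.Agent.Lib.KnownA.SuzOut.ChkGen
import Cfsg.Agent.Lib.KnownA.SuzOut.Rows0
import Cfsg.Agent.Lib.KnownA.SuzOut.Rows1
import Cfsg.Agent.Lib.KnownA.SuzOut.Rows2
import Cfsg.Agent.Lib.KnownA.SuzOut.Rows3
import Cfsg.Agent.Lib.KnownA.SuzOut.Rows4
import Cfsg.Agent.Lib.KnownA.SuzOut.Rows5
import Mathlib.GroupTheory.Perm.Cycle.Type

/-!
# Elements, the outer permutation and the orbital of degree 416 for Suz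
-/

set_option autoImplicit false
set_option maxRecDepth 100000

namespace CfsgLib.KnownA.SuzOut

open CfsgLib.InvChar.Coset CfsgLib.InvChar.SporSuz Cfsg.Spor

/-- The 1782 points. -/
abbrev Pt : Type := Fin SuzA.table.n

theorem follow_word (L : List ℕ) (hL : ∀ a ∈ L, a < 7) (i : Pt) :
    SuzA.table.follow L i = (rep (wprod gen L.reverse) i : ℕ) := by
  rw [wprod_reverse gen gen_mul_self, map_inv, map_wprod rep gen perm L fun a ha => rep_gen a (hL a ha)]
  exact SuzA.valid.follow_eq SuzA.sq L hL i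

theorem follow_gen {a : ℕ} (ha : a < 7) (i : Pt) : SuzA.table.app i a = (rep (gen a) i : ℕ) := by
  rw [rep_gen a ha]
  exact (SuzA.valid.toPerm_apply SuzA.sq ha i).symm

/-- The seven elements. -/
noncomputable def elt (k : ℕ) : Suz := wprod gen (uWords.getD k []).reverse

theorem uWords_lt : ∀ L ∈ uWords, ∀ a ∈ L, a < 7 := by decide +kernel

theorem app_elt {k : ℕ} (hk : k < 7) (i : Pt) : uTable.app i k = (rep (elt k) i : ℕ) := by
  have hk' : k < uWords.length := hk
  have h := SuzA.table.chkDerived_get uTable uWords 1782 0 chk_derived i (Nat.zero_le _)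
    (lt_of_lt_of_eq i.2 (zero_add _).symm) k hk'
  rw [h, elt, List.getD_eq_getElem _ _ hk']
  exact follow_word _ (uWords_lt _ (List.getElem_mem hk')) i

theorem natRec_all (f : ℕ → Bool) : ∀ m,
    (Nat.rec (motive := fun _ => Bool) true (fun a ih => ih && f a) m) = true → ∀ a < m, f a = true := by
  intro m
  induction m with
  | zero => intro _ a ha; omega
  | succ m ih =>
    intro h a ha
    have h' : (Nat.rec (motive := fun _ => Bool) true (fun a ih => ih && f a) m && f m) = true := h
    rw [Bool.and_eq_true] at h'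
    rcases Nat.lt_succ_iff_lt_or_eq.1 ha with ha | rfl
    · exact ih h'.1 a ha
    · exact h'.2

theorem tau_at (i : Pt) : uTable.app i 7 < SuzA.table.n ∧ uTable.app (uTable.app i 7) 7 = i ∧
    ∀ a < 7, uTable.app (SuzA.table.app (uTable.app i 7) a) 7 = SuzA.table.follow (tauWords.getD a []) i := by
  have h := chkFrom_get chkTauAt 1782 0 chk_tau i (Nat.zero_le _) (lt_of_lt_of_eq i.2 (zero_add _).symm)
  have h' : (Nat.blt (uTable.app i 7) 1782 && Nat.beq (uTable.app (uTable.app i 7) 7) i &&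
    Nat.rec (motive := fun _ => Bool) true (fun a ih => ih &&
      Nat.beq (uTable.app (SuzA.table.app (uTable.app i 7) a) 7)
        (SuzA.table.follow (tauWords.getD a []) i)) 7) = true := h
  simp only [Bool.and_eq_true] at h'
  refine ⟨?_, Nat.eq_of_beq_eq_true h'.1.2, fun a ha => ?_⟩
  · have := h'.1.1
    simp only [Nat.blt] at this
    exact Nat.succ_le_iff.1 (Nat.le_of_ble_eq_true this)
  · exact Nat.eq_of_beq_eq_true (natRec_all (fun a => Nat.beq
      (uTable.app (SuzA.table.app (uTable.app i 7) a) 7)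
      (SuzA.table.follow (tauWords.getD a []) i)) 7 h'.2 a ha)

/-- The outer permutation. -/
noncomputable def tauP : Equiv.Perm Pt :=
  Function.Involutive.toPerm (fun i => ⟨uTable.app i 7, (tau_at i).1⟩) fun i => Fin.ext (tau_at i).2.1

theorem tauP_apply (i : Pt) : uTable.app i 7 = (tauP i : ℕ) := rfl

theorem tauP_apply_apply (i : Pt) : tauP (tauP i) = i := Fin.ext (tau_at i).2.1

theorem tauP_mul_self : tauP * tauP = 1 := Equiv.ext tauP_apply_apply

/-- The eight letters. -/
noncomputable def letter (k : ℕ) : Equiv.Perm Pt := if k = 7 then tauP else rep (elt k)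

theorem app_letter {k : ℕ} (hk : k < 8) (i : Pt) : uTable.app i k = (letter k i : ℕ) := by
  unfold letter
  split_ifs with h
  · subst h; rfl
  · exact app_elt (by omega) i

theorem follow_letters : ∀ L : List ℕ, (∀ a ∈ L, a < 8) → ∀ i : Pt,
    uTable.follow L i = ((L.reverse.map letter).prod i : ℕ) := by
  intro L
  induction L with
  | nil => intro _ i; rfl
  | cons a L ih =>
    intro hL i
    obtain ⟨ha, hL⟩ := List.forall_mem_cons.1 hL
    show force (uTable.app i a) (uTable.follow L) = _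
    rw [force_eq, app_letter ha, ih hL]
    simp

theorem eqn (A B : List ℕ) (h : (A, B) ∈ eqns) : (A.map letter).prod = (B.map letter).prod := by
  obtain ⟨hA, hB⟩ := (by decide +kernel : ∀ e ∈ eqns, (∀ a ∈ e.1, a < 8) ∧ ∀ a ∈ e.2, a < 8) _ h
  refine Equiv.ext fun i => Fin.ext ?_
  have e1 := follow_letters A.reverse (fun a ha => hA a (List.mem_reverse.1 ha)) i
  have e2 := follow_letters B.reverse (fun a ha => hB a (List.mem_reverse.1 ha)) i
  rw [List.reverse_reverse] at e1 e2
  rw [← e1, ← e2]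
  exact chkEq_get _ _ 1782 0 (List.all_eq_true.1 chk_eqns _ h) i (Nat.zero_le _)
    (lt_of_lt_of_eq i.2 (zero_add _).symm)

theorem tauWords_lt : ∀ L ∈ tauWords, ∀ a ∈ L, a < 7 := by decide +kernel

theorem tau_conj_gen {a : ℕ} (ha : a < 7) :
    ∃ k : Suz, tauP * rep (gen a) * tauP = rep k := by
  refine ⟨wprod gen (tauWords.getD a []).reverse, Equiv.ext fun i => Fin.ext ?_⟩
  have hL : ∀ b ∈ tauWords.getD a [], b < 7 := by
    rw [List.getD_eq_getElem _ _ (show a < tauWords.length from ha)]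
    exact tauWords_lt _ (List.getElem_mem _)
  rw [← follow_word _ hL i, ← (tau_at i).2.2 a ha, tauP_apply i, follow_gen ha (tauP i),
    tauP_apply (rep (gen a) (tauP i))]
  rfl

theorem tau_conj (h : Suz) : ∃ k : Suz, tauP * rep h * tauP = rep k := by
  induction (closure_gen ▸ Subgroup.mem_top h : h ∈ Subgroup.closure (gen '' Set.Iio 7))
    using Subgroup.closure_induction with
  | mem a ha =>
    obtain ⟨b, hb, rfl⟩ := ha
    exact tau_conj_gen hb
  | one => exact ⟨1, by rw [map_one, mul_one, tauP_mul_self]⟩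
  | mul a b _ _ ha hb =>
    obtain ⟨k, hk⟩ := ha
    obtain ⟨l, hl⟩ := hb
    refine ⟨k * l, ?_⟩
    rw [map_mul, map_mul, ← hk, ← hl]
    simp [mul_assoc, ← mul_assoc tauP tauP, tauP_mul_self]
  | inv a _ ha =>
    obtain ⟨k, hk⟩ := ha
    refine ⟨k⁻¹, ?_⟩
    rw [map_inv, map_inv, ← hk, mul_inv_rev, mul_inv_rev, inv_eq_of_mul_eq_one_right tauP_mul_self,
      mul_assoc]

/-- The outer automorphism, as a function. -/
noncomputable def thetaFun (h : Suz) : Suz := Classical.choose (tau_conj h)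

theorem rep_thetaFun (h : Suz) : rep (thetaFun h) = tauP * rep h * tauP :=
  (Classical.choose_spec (tau_conj h)).symm

theorem thetaFun_thetaFun (h : Suz) : thetaFun (thetaFun h) = h := by
  apply card_eq.2
  rw [rep_thetaFun, rep_thetaFun]
  simp [mul_assoc, tauP_mul_self, ← mul_assoc tauP tauP]

/-- The outer automorphism. -/
noncomputable def theta : MulAut Suz where
  toFun := thetaFun
  invFun := thetaFun
  left_inv := thetaFun_thetaFun
  right_inv := thetaFun_thetaFun
  map_mul' a b := by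
    apply card_eq.2
    rw [map_mul, rep_thetaFun, rep_thetaFun, rep_thetaFun, map_mul]
    simp [mul_assoc, ← mul_assoc tauP tauP, tauP_mul_self]

theorem rep_theta (h : Suz) : rep (theta h) = tauP * rep h * tauP := rep_thetaFun h

/-- The base point. -/
noncomputable def pt0 : Pt := ⟨0, SuzA.covered.hn⟩

/-- The row of the base point. -/
noncomputable def row0 : ℕ := rowTr.get 0

theorem img_bit (R a j : ℕ) :
    bit (img R a) j = true ↔ ∃ q < 1782, bit R q = true ∧ SuzA.table.app q a = j := by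
  unfold img
  generalize 1782 = m
  induction m with
  | zero => simp [bit_eq]
  | succ m ih =>
    show bit (bif bit R m then force (SuzA.table.app m a) fun b =>
      (Nat.rec (motive := fun _ => ℕ) 0
        (fun q ih => bif bit R q then force (SuzA.table.app q a) fun j => ih ||| 2 ^ j else ih) m) ||| 2 ^ b
      else Nat.rec (motive := fun _ => ℕ) 0
        (fun q ih => bif bit R q then force (SuzA.table.app q a) fun j => ih ||| 2 ^ j else ih) m) j = true ↔ _
    cases hb : bit R m with
    | true =>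
      rw [cond_true, force_eq, bit_eq, Nat.testBit_or, Bool.or_eq_true, ← bit_eq, ih, bit_two_pow]
      constructor
      · rintro (⟨q, hq, h⟩ | h)
        · exact ⟨q, by omega, h⟩
        · exact ⟨m, by omega, hb, h⟩
      · rintro ⟨q, hq, h⟩
        rcases Nat.lt_succ_iff_lt_or_eq.1 hq with hq | rfl
        · exact Or.inl ⟨q, hq, h⟩
        · exact Or.inr h.2
    | false =>
      rw [cond_false, ih]
      constructor
      · rintro ⟨q, hq, h⟩; exact ⟨q, by omega, h⟩
      · rintro ⟨q, hq, h⟩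
        rcases Nat.lt_succ_iff_lt_or_eq.1 hq with hq | rfl
        · exact ⟨q, hq, h⟩
        · exact absurd h.1 (by rw [hb]; simp)

theorem bit_img_gen (R : ℕ) {a : ℕ} (ha : a < 7) (j : Pt) :
    bit (img R a) j = true ↔ bit R (rep (gen a) j : Pt) = true := by
  have hinv : ∀ i : Pt, rep (gen a) (rep (gen a) i) = i := fun i => by
    rw [← Equiv.Perm.mul_apply, ← map_mul, gen_mul_self, map_one, Equiv.Perm.one_apply]
  rw [img_bit]
  constructor
  · rintro ⟨q, hq, hb, hj⟩
    have e := follow_gen ha (⟨q, hq⟩ : Pt)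
    rw [hj] at e
    rw [show j = rep (gen a) ⟨q, hq⟩ from Fin.ext e, hinv]
    exact hb
  · intro hb
    exact ⟨_, (rep (gen a) j).2, hb, by rw [follow_gen ha (rep (gen a) j), hinv]⟩

theorem row0_fix : ∀ a < 6, img row0 a = row0 := by decide +kernel

theorem row0_H (h : Suz) (hh : h ∈ H) : ∀ j : Pt, bit row0 (rep h j : Pt) = bit row0 j := by
  induction hh using Subgroup.closure_induction with
  | mem g hg =>
    obtain ⟨L, hL, rfl⟩ := hg
    obtain ⟨a, ha, rfl⟩ := (by decide +kernel : ∀ L ∈ SuzA.subs, ∃ a < 6, L = [a]) L hL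
    intro j
    have e := bit_img_gen row0 (show a < 7 by omega) j
    rw [row0_fix a ha] at e
    rw [show wprod gen [a] = gen a by simp [wprod]]
    exact Bool.eq_iff_iff.2 e.symm
  | one => intro j; simp
  | mul g k _ _ hg hk => intro j; rw [map_mul, Equiv.Perm.mul_apply, hg, hk]
  | inv g _ hg =>
    intro j
    have := hg (rep g⁻¹ j)
    rw [← Equiv.Perm.mul_apply, ← map_mul, mul_inv_cancel, map_one, Equiv.Perm.one_apply] at this
    exact this.symm

theorem mem_H_of_fix (h : Suz) (hh : rep h pt0 = pt0) : h ∈ H := by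
  obtain ⟨-, e, he0, he⟩ := index_H
  have h1 := he h pt0
  rw [hh, show e pt0 = ((1 : Suz) : Suz ⧸ H) from he0] at h1
  have h2 : ((h * 1 : Suz) : Suz ⧸ H) = ((1 : Suz) : Suz ⧸ H) := h1
  rw [mul_one, QuotientGroup.eq, mul_one] at h2
  simpa using inv_mem h2

/-- The orbital of degree 416. -/
def Rel (p q : Pt) : Prop := ∃ h : Suz, rep h pt0 = p ∧ bit row0 (rep h⁻¹ q : Pt) = true

theorem rel_iff {h : Suz} {p : Pt} (hp : rep h pt0 = p) (q : Pt) :
    Rel p q ↔ bit row0 (rep h⁻¹ q : Pt) = true := by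
  refine ⟨?_, fun hb => ⟨h, hp, hb⟩⟩
  rintro ⟨k, hk, hb⟩
  have hm : h⁻¹ * k ∈ H := mem_H_of_fix _ (by
    rw [map_mul, Equiv.Perm.mul_apply, hk, ← hp, ← Equiv.Perm.mul_apply, ← map_mul, inv_mul_cancel,
      map_one, Equiv.Perm.one_apply])
  rw [← row0_H _ hm] at hb
  rwa [← Equiv.Perm.mul_apply, ← map_mul, mul_assoc, mul_inv_cancel, mul_one] at hb

theorem rel_rep_mp (g : Suz) {p q : Pt} (h : Rel p q) : Rel (rep g p) (rep g q) := by
  obtain ⟨k, hk, hb⟩ := h
  refine ⟨g * k, by rw [map_mul, Equiv.Perm.mul_apply, hk], ?_⟩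
  rwa [mul_inv_rev, map_mul, Equiv.Perm.mul_apply, ← Equiv.Perm.mul_apply (rep g⁻¹), ← map_mul,
    inv_mul_cancel, map_one, Equiv.Perm.one_apply]

theorem rel_rep (g : Suz) (p q : Pt) : Rel p q ↔ Rel (rep g p) (rep g q) := by
  refine ⟨rel_rep_mp g, fun h => ?_⟩
  have := rel_rep_mp g⁻¹ h
  simpa [← Equiv.Perm.mul_apply, ← map_mul] using this

theorem row_step (k : ℕ) (h1 : 1 ≤ k) (h2 : k < rowCount) : chkRowAt k = true := by
  have hc : rowCount = 773 := rfl
  rcases Nat.lt_or_ge k 131 with a | a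
  · exact chkFrom_get _ _ _ chk_rowsAt0 k h1 (by omega)
  rcases Nat.lt_or_ge k 261 with b | b
  · exact chkFrom_get _ _ _ chk_rowsAt1 k a (by omega)
  rcases Nat.lt_or_ge k 391 with c | c
  · exact chkFrom_get _ _ _ chk_rowsAt2 k b (by omega)
  rcases Nat.lt_or_ge k 521 with d | d
  · exact chkFrom_get _ _ _ chk_rowsAt3 k c (by omega)
  rcases Nat.lt_or_ge k 651 with e | e
  · exact chkFrom_get _ _ _ chk_rowsAt4 k d (by omega)
  exact chkFrom_get _ _ _ chk_rowsAt5 k e (by omega)

theorem rows_spec : ∀ k < rowCount, ∃ p : Pt, (p : ℕ) = field rowPts 128 20 k ∧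
    ∀ q : Pt, (bit (rowTr.get k) q = true ↔ Rel p q) := by
  intro k
  induction k using Nat.strong_induction_on with
  | _ k ih =>
    intro hk
    rcases Nat.eq_zero_or_pos k with rfl | hpos
    · refine ⟨pt0, (by decide +kernel : 0 = field rowPts 128 20 0), fun q => ?_⟩
      rw [rel_iff (h := 1) (by simp)]
      simp [row0]
    · have h : (force (field rowPar 128 30 k) fun v =>
          Nat.blt (v >>> 10) k && Nat.blt (v % 1024) 7 &&
            Nat.beq (SuzA.table.app (field rowPts 128 20 (v >>> 10)) (v % 1024)) (field rowPts 128 20 k) &&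
            Nat.beq (img (rowTr.get (v >>> 10)) (v % 1024)) (rowTr.get k)) = true := row_step k hpos hk
      rw [force_eq] at h
      generalize field rowPar 128 30 k = v at h
      simp only [Bool.and_eq_true] at h
      obtain ⟨⟨⟨hlt, ha⟩, hp⟩, hi⟩ := h
      have hlt : v >>> 10 < k := by simpa [Nat.blt] using hlt
      have ha : v % 1024 < 7 := by simpa [Nat.blt] using ha
      obtain ⟨p, hpv, hrow⟩ := ih _ hlt (hlt.trans hk)
      refine ⟨rep (gen (v % 1024)) p, ?_, fun q => ?_⟩
      · rw [← follow_gen ha, hpv]; exact Nat.eq_of_beq_eq_true hp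
      · rw [← Nat.eq_of_beq_eq_true hi, bit_img_gen _ ha, hrow, rel_rep (gen (v % 1024)),
          ← Equiv.Perm.mul_apply, ← map_mul, gen_mul_self, map_one, Equiv.Perm.one_apply]

theorem row_of_pos (p : Pt) (hp : field rowPos 128 20 p ≠ 0) (q : Pt) :
    bit (rowTr.get (field rowPos 128 20 p - 1)) q = true ↔ Rel p q := by
  have h : (force (field rowPos 128 20 p) fun c =>
    Nat.beq c 0 || (Nat.ble c rowCount && Nat.beq (field rowPts 128 20 (c - 1)) p)) = true :=
    chkFrom_get chkPosAt 1782 0 chk_pos p (Nat.zero_le _) (lt_of_lt_of_eq p.2 (zero_add _).symm)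
  simp only [force_eq, Bool.or_eq_true, Bool.and_eq_true] at h
  obtain ⟨h1, h2⟩ := h.resolve_left fun e => hp (Nat.eq_of_beq_eq_true e)
  have h1 := Nat.le_of_ble_eq_true h1
  obtain ⟨p', hp', hrow⟩ := rows_spec (field rowPos 128 20 p - 1) (by omega)
  obtain rfl : p' = p := Fin.ext (hp'.trans (Nat.eq_of_beq_eq_true h2))
  exact hrow q

/-- The row of the image of the base point under the outer permutation. -/
noncomputable def chkTauRow : Bool :=
  force (field rowPos 128 20 (uTable.app 0 7)) fun c => !Nat.beq c 0 &&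
    chkFrom (fun q => force (uTable.app q 7) fun j =>
      bif bit (rowTr.get 0) q then bit (rowTr.get (c - 1)) j else true) 1782 0

theorem chk_tauRow : chkTauRow = true := by decide +kernel

theorem rel_tau_base (q : Pt) (hq : bit row0 q = true) : Rel (tauP pt0) (tauP q) := by
  have h : (force (field rowPos 128 20 (uTable.app 0 7)) fun c => !Nat.beq c 0 &&
    chkFrom (fun q => force (uTable.app q 7) fun j =>
      bif bit (rowTr.get 0) q then bit (rowTr.get (c - 1)) j else true) 1782 0) = true := chk_tauRow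
  simp only [force_eq, Bool.and_eq_true, Bool.not_eq_true'] at h
  obtain ⟨hc, h⟩ := h
  have h2 := chkFrom_get _ _ _ h q (Nat.zero_le _) (lt_of_lt_of_eq q.2 (zero_add _).symm)
  rw [show bit (rowTr.get 0) q = true from hq] at h2
  have hne : field rowPos 128 20 (tauP pt0 : Pt) ≠ 0 := by
    intro e
    rw [show field rowPos 128 20 (uTable.app 0 7) = 0 from e] at hc
    exact absurd hc (by simp)
  exact (row_of_pos _ hne _).1 h2

theorem rel_tau_mp {p q : Pt} (h : Rel p q) : Rel (tauP p) (tauP q) := by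
  obtain ⟨k, hk, hb⟩ := h
  have := rel_rep_mp (theta k) (rel_tau_base _ hb)
  rw [rep_theta, Equiv.Perm.mul_apply, Equiv.Perm.mul_apply, Equiv.Perm.mul_apply, Equiv.Perm.mul_apply,
    tauP_apply_apply, tauP_apply_apply, hk, ← Equiv.Perm.mul_apply (rep k), ← map_mul, mul_inv_cancel,
    map_one, Equiv.Perm.one_apply] at this
  exact this

theorem rel_tau (p q : Pt) : Rel p q ↔ Rel (tauP p) (tauP q) :=
  ⟨rel_tau_mp, fun h => by simpa [tauP_apply_apply] using rel_tau_mp h⟩

theorem noncomm : ∃ g h : Suz, g * h ≠ h * g := by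
  refine ⟨gen 1, gen 2, fun e => ?_⟩
  have h := congrArg (fun g => ((rep g : Equiv.Perm Pt))) e
  simp only [map_mul] at h
  have hp : ∃ i < 1782, SuzA.table.app (SuzA.table.app i 2) 1 ≠ SuzA.table.app (SuzA.table.app i 1) 2 := by
    decide +kernel
  obtain ⟨i, hi, hne⟩ := hp
  have := congrArg (fun π : Equiv.Perm Pt => ((π ⟨i, hi⟩ : Pt) : ℕ)) h
  simp only [Equiv.Perm.mul_apply, ← follow_gen (show 1 < 7 by norm_num), ← follow_gen (show 2 < 7 by norm_num)] at this
  exact hne this

theorem sign_rep (g : Suz) : Equiv.Perm.sign (rep g) = 1 := by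
  haveI : IsSimpleGroup Suz := isSimpleGroup
  rcases (MonoidHom.normal_ker ((Equiv.Perm.sign : Equiv.Perm Pt →* ℤˣ).comp rep)).eq_bot_or_eq_top with h | h
  · exfalso
    obtain ⟨a, b, hab⟩ := noncomm
    exact hab ((MonoidHom.ker_eq_bot_iff _).1 h (by simp [mul_comm]))
  · have := h ▸ Subgroup.mem_top g
    exact MonoidHom.mem_ker.1 this

theorem sign_fpf {n : ℕ} (σ : Equiv.Perm (Fin n)) (hσ : σ * σ = 1) (hfix : ∀ i, σ i ≠ i) {k : ℕ}
    (hn : n = 2 * k) (hk : Odd k) : Equiv.Perm.sign σ = -1 := by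
  haveI : Fact (Nat.Prime 2) := ⟨Nat.prime_two⟩
  have hct : ∀ c ∈ σ.cycleType, c = 2 := Equiv.Perm.pow_prime_eq_one_iff.1 (by rw [pow_two, hσ])
  have hsupp : σ.support = Finset.univ :=
    Finset.eq_univ_iff_forall.2 fun i => Equiv.Perm.mem_support.2 (hfix i)
  have hrep := Multiset.eq_replicate_card.2 hct
  have hsum := σ.sum_cycleType
  rw [hsupp, Finset.card_univ, Fintype.card_fin, hrep, Multiset.sum_replicate, smul_eq_mul] at hsum
  rw [Equiv.Perm.sign_of_cycleType, hrep, Multiset.sum_replicate, Multiset.card_replicate, smul_eq_mul]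
  generalize σ.cycleType.card = c at hsum ⊢
  have : c = k := by omega
  subst this
  exact Odd.neg_one_pow (by obtain ⟨j, rfl⟩ := hk; exact ⟨3 * j + 1, by omega⟩)

theorem tau_moves : chkFrom (fun i => !Nat.beq (uTable.app i 7) i) 1782 0 = true := by decide +kernel

theorem sign_tauP : Equiv.Perm.sign tauP = -1 := by
  refine sign_fpf tauP tauP_mul_self (fun i e => ?_) (k := 891) rfl ⟨445, by norm_num⟩
  have h := chkFrom_get _ _ _ tau_moves i (Nat.zero_le _) (lt_of_lt_of_eq i.2 (zero_add _).symm)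
  rw [tauP_apply, e, Nat.beq_refl] at h
  exact Bool.false_ne_true h

theorem tau_not_rep (g : Suz) : rep g ≠ tauP := by
  intro e
  have := sign_rep g
  rw [e, sign_tauP] at this
  exact absurd this (by decide)

end CfsgLib.KnownA.SuzOut
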